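import Cfsg.Agent.L0.CosetChain

/-! Generated coset table certificate. -/

set_option autoImplicit false
set_option maxRecDepth 100000

namespace Cfsg.Agent.L0.McLPc3

noncomputable def t0 : BT := .node (.leaf (nat_lit 0x961145a158555b6cd8c0000000000000011371d6775d37c9f402000000000000000ad91359956521a5cd88000000000000001a5449454d536522361000000000000000024086d2444ce1286040000000000000000701953b0d124920e1000000000000000444054c9a2010035000000000000000000022048120481204000)) (.leaf (nat_lit 0x1147a56976539aa7403))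

noncomputable def tree : BT := t0

noncomputable def row : ℕ → ℕ := rowOf tree (nat_lit 3) (nat_lit 7) (nat_lit 134) (nat_lit 0x3fffffffffffffffffffffffffffffffff)

noncomputable def cols : List Col := [⟨nat_lit 14, nat_lit 1, [([nat_lit 14, nat_lit 14], nat_lit 0), ([nat_lit 54, nat_lit 14, nat_lit 54], nat_lit 0), ([nat_lit 24], nat_lit 0), ([nat_lit 64, nat_lit 14, nat_lit 64, nat_lit 24, nat_lit 64, nat_lit 24, nat_lit 64], nat_lit 0), ([nat_lit 64, nat_lit 24, nat_lit 64, nat_lit 24, nat_lit 64, nat_lit 14, nat_lit 64], nat_lit 0)]⟩,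
  ⟨nat_lit 24, nat_lit 1, [([nat_lit 14], nat_lit 0)]⟩,
  ⟨nat_lit 34, nat_lit 1, [([nat_lit 54, nat_lit 34, nat_lit 54], nat_lit 0), ([nat_lit 64, nat_lit 34, nat_lit 64], nat_lit 0), ([nat_lit 44], nat_lit 0), ([nat_lit 24, nat_lit 44, nat_lit 14], nat_lit 0)]⟩,
  ⟨nat_lit 44, nat_lit 1, [([nat_lit 34], nat_lit 0), ([nat_lit 14, nat_lit 34, nat_lit 24], nat_lit 0)]⟩,
  ⟨nat_lit 54, nat_lit 1, [([nat_lit 54], nat_lit 0), ([nat_lit 64, nat_lit 54, nat_lit 64, nat_lit 54, nat_lit 64], nat_lit 0)]⟩,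
  ⟨nat_lit 64, nat_lit 0, [([nat_lit 64], nat_lit 0), ([nat_lit 54, nat_lit 64, nat_lit 54, nat_lit 64, nat_lit 54], nat_lit 0), ([nat_lit 14, nat_lit 64, nat_lit 14, nat_lit 64, nat_lit 24, nat_lit 64, nat_lit 24], nat_lit 0), ([nat_lit 14, nat_lit 54, nat_lit 64, nat_lit 54, nat_lit 24, nat_lit 64, nat_lit 14, nat_lit 54], nat_lit 0)]⟩]

noncomputable def erots : List (List ℕ × ℕ) := []

noncomputable def gens : List ℕ := [nat_lit 14, nat_lit 24, nat_lit 34, nat_lit 44, nat_lit 54, nat_lit 64]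

noncomputable def chk : ℕ → Bool := chkRow0 row (nat_lit 9) (nat_lit 0xf) (nat_lit 0x70) (nat_lit 7) (nat_lit 0x7) (nat_lit 0) (nat_lit 0xf) (nat_lit 4) (nat_lit 0xff) (nat_lit 0x3000) [] cols gens

theorem b0 : allR chk 4 0 = true := by decide +kernel

noncomputable def T : CT := ⟨row, nat_lit 9, nat_lit 9, nat_lit 0xf, nat_lit 0x70, nat_lit 7, nat_lit 0x7, nat_lit 0, nat_lit 0xf, nat_lit 4, nat_lit 0xff, nat_lit 0x3000, nat_lit 134, nat_lit 134, nat_lit 0, nat_lit 9, [], cols, erots, gens⟩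

theorem all : ∀ c < 9, chk c = true := fun c hc =>
  allR_glue (d := 4) (n := 1) (forall_lt_succ' forall_lt_zero' b0) c (lt_of_lt_of_le hc (by norm_num))

/-- the relators used -/
def R : List (List ℕ) := [[nat_lit 0, nat_lit 1],
  [nat_lit 0, nat_lit 0, nat_lit 0],
  [nat_lit 2, nat_lit 3],
  [nat_lit 0, nat_lit 2, nat_lit 1, nat_lit 3],
  [nat_lit 4, nat_lit 4],
  [nat_lit 0, nat_lit 4, nat_lit 0, nat_lit 4],
  [nat_lit 2, nat_lit 4, nat_lit 2, nat_lit 4],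
  [nat_lit 5, nat_lit 5],
  [nat_lit 2, nat_lit 5, nat_lit 2, nat_lit 5],
  [nat_lit 4, nat_lit 5, nat_lit 4, nat_lit 5, nat_lit 4, nat_lit 5],
  [nat_lit 0, nat_lit 5, nat_lit 0, nat_lit 5, nat_lit 1, nat_lit 5, nat_lit 1, nat_lit 5],
  [nat_lit 0, nat_lit 4, nat_lit 5, nat_lit 0, nat_lit 4, nat_lit 5, nat_lit 4, nat_lit 1, nat_lit 5]]

theorem cert : Cert T (R.map fun r => (r, 0)) ([0, 1, 2, 3, 4].map fun y => (y, 0)) 14 10 [0, 1, 2, 3, 4, 5] :=
  ⟨by decide +kernel, ⟨[[(1, 0), (5, 0), (0, 0), (10, 0), (10, 2)], [(0, 1)], [(6, 0), (8, 0), (2, 0), (3, 1)], [(2, 1), (3, 3)], [(4, 0), (9, 0)], [(7, 0), (9, 1), (10, 7), (11, 2)]], [], by decide +kernel⟩, by decide +kernel, Or.inl ⟨rfl, all⟩⟩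

theorem bound {Γ : Type*} [Group Γ] {x : ℕ → Γ} (hR : ∀ r ∈ R, ev x r = 1) {n : ℕ}
    (h : CardLe x [0, 1, 2, 3, 4] n) : CardLe x [0, 1, 2, 3, 4, 5] (9 * n) :=
  cert.cardLe rfl hR h

end Cfsg.Agent.L0.McLPc3
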