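import Cfsg.Agent.L0.CosetChain

/-! Generated coset table certificate. -/

set_option autoImplicit false
set_option maxRecDepth 100000

namespace Cfsg.Agent.L0.McLPc6

noncomputable def t0 : BT := .node (.node (.leaf (nat_lit 0x83390c52416408800b91a9002c494888491714d410000000182421f043e0c69400a902220c661a8c32c16d498100000001073001422e2444cc3328aa20ca4088837a04a47a100000000c4280135150471c831286320446118c96988745c100000000009114f41c40044008116d001e44b4831982243e100000000007000d0018842400590850014c11c81110444201000000008109104001200220228007000c0014002000332e00000000000108011002200440088011002200440088010000)) (.leaf (nat_lit 0x1cfc12d233144ad890a1272242840a48f5a13667a800000000d06935b246b06d481421d725b489b89ce1b1b6b67000000009551236342caa609371234252440a08ac21ab67a7000000018e99a172432475c813a0ab232281ac90949f46b660000000000ea2ae204c4bf0cfc1a16435267e090a92127105000000008fa99cb204b43988d6920c373886c089cb26e71040000000081222fa35704d6d16d1a58345069d891a39f572e3000000008d5a94653dc4091495217122d665d48c431496d43)))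 (.node (.leaf (nat_lit 0xe0e1207240f273081211b923a64f70926125a6b630000000118d1969324868b8dee18cf22da4090845204667a300000000811921125a8493d52b1a9a252eaa68949929972e20000000091bb21c2046c5b5cc9c1444208653c8c399457102000000015161023003847c111cb1f334f2006c83d2a306f22000000010c899e823e6a5ac81190d5212a85448eb11d86b6200000000d4b11b8003400648a890c6210e408c833106f67a2000000014e49022231e448e4c49988003047508b8a8e84f21)) (.leaf (nat_lit 0x81c94bd29faf17993f3abe553c4af897f3adeb2f80000000081a34de593ceaf591ebc5d553a4af4a4ebc7d92f300000000a18102c245a6b509f793bb37604ecc9ddab778f2b000000011fd9379466e8cc8d6d9b9c20586ae4d7b939c85cb00000000997902a262463e897912ae255c6adc938284c8f290000000000f29f546b640a8926319025b64a3095731138d49)))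

noncomputable def tree : BT := t0

noncomputable def row : ℕ → ℕ := rowOf tree (nat_lit 3) (nat_lit 7) (nat_lit 196) (nat_lit 0xfffffffffffffffffffffffffffffffffffffffffffffffff)

noncomputable def cols : List Col := [⟨nat_lit 16, nat_lit 1, [([nat_lit 16, nat_lit 16], nat_lit 0), ([nat_lit 31], nat_lit 0), ([nat_lit 46, nat_lit 31, nat_lit 61], nat_lit 0), ([nat_lit 136, nat_lit 61, nat_lit 121], nat_lit 0), ([nat_lit 106, nat_lit 16, nat_lit 106], nat_lit 0), ([nat_lit 46, nat_lit 76, nat_lit 151, nat_lit 91, nat_lit 61, nat_lit 151], nat_lit 0), ([nat_lit 76, nat_lit 16, nat_lit 76], nat_lit 0), ([nat_lit 121, nat_lit 106, nat_lit 136, nat_lit 76], nat_lit 0)]⟩,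
  ⟨nat_lit 31, nat_lit 1, [([nat_lit 16], nat_lit 0), ([nat_lit 61, nat_lit 16, nat_lit 46], nat_lit 0)]⟩,
  ⟨nat_lit 46, nat_lit 1, [([nat_lit 61], nat_lit 0), ([nat_lit 46, nat_lit 46], nat_lit 0), ([nat_lit 91, nat_lit 46, nat_lit 91], nat_lit 0), ([nat_lit 31, nat_lit 61, nat_lit 16], nat_lit 0), ([nat_lit 76, nat_lit 151, nat_lit 91, nat_lit 61, nat_lit 151, nat_lit 16], nat_lit 0)]⟩,
  ⟨nat_lit 61, nat_lit 1, [([nat_lit 46], nat_lit 0), ([nat_lit 16, nat_lit 46, nat_lit 31], nat_lit 0), ([nat_lit 121, nat_lit 16, nat_lit 136], nat_lit 0), ([nat_lit 151, nat_lit 16, nat_lit 46, nat_lit 76, nat_lit 151, nat_lit 91], nat_lit 0)]⟩,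
  ⟨nat_lit 76, nat_lit 1, [([nat_lit 76], nat_lit 0), ([nat_lit 16, nat_lit 76, nat_lit 16], nat_lit 0), ([nat_lit 91, nat_lit 76, nat_lit 91, nat_lit 76, nat_lit 91], nat_lit 0), ([nat_lit 46, nat_lit 76, nat_lit 46], nat_lit 0), ([nat_lit 91, nat_lit 106, nat_lit 76, nat_lit 91, nat_lit 106], nat_lit 0), ([nat_lit 151, nat_lit 106, nat_lit 151, nat_lit 16, nat_lit 76, nat_lit 121, nat_lit 151], nat_lit 0), ([nat_lit 16, nat_lit 121, nat_lit 106, nat_lit 136], nat_lit 0)]⟩,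
  ⟨nat_lit 91, nat_lit 1, [([nat_lit 91], nat_lit 0), ([nat_lit 46, nat_lit 91, nat_lit 46], nat_lit 0), ([nat_lit 76, nat_lit 91, nat_lit 76, nat_lit 91, nat_lit 76], nat_lit 0), ([nat_lit 46, nat_lit 106, nat_lit 136, nat_lit 136, nat_lit 106], nat_lit 0), ([nat_lit 151, nat_lit 91, nat_lit 151, nat_lit 91, nat_lit 151], nat_lit 0), ([nat_lit 106, nat_lit 76, nat_lit 91, nat_lit 106, nat_lit 76], nat_lit 0), ([nat_lit 61, nat_lit 151, nat_lit 16, nat_lit 46, nat_lit 76, nat_lit 151], nat_lit 0), ([nat_lit 31, nat_lit 91, nat_lit 31, nat_lit 91, nat_lit 16, nat_lit 91, nat_lit 16], nat_lit 0)]⟩,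
  ⟨nat_lit 106, nat_lit 1, [([nat_lit 106], nat_lit 0), ([nat_lit 136, nat_lit 76, nat_lit 16, nat_lit 121], nat_lit 0), ([nat_lit 16, nat_lit 106, nat_lit 16], nat_lit 0), ([nat_lit 46, nat_lit 106, nat_lit 16, nat_lit 46, nat_lit 91, nat_lit 16, nat_lit 91], nat_lit 0), ([nat_lit 16, nat_lit 46, nat_lit 91, nat_lit 16, nat_lit 91, nat_lit 106, nat_lit 46], nat_lit 0), ([nat_lit 151, nat_lit 16, nat_lit 76, nat_lit 121, nat_lit 151, nat_lit 76, nat_lit 151], nat_lit 0), ([nat_lit 76, nat_lit 91, nat_lit 106, nat_lit 76, nat_lit 91], nat_lit 0), ([nat_lit 136, nat_lit 136, nat_lit 106, nat_lit 91, nat_lit 46], nat_lit 0), ([nat_lit 91, nat_lit 46, nat_lit 106, nat_lit 136, nat_lit 136], nat_lit 0)]⟩,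
  ⟨nat_lit 121, nat_lit 1, [([nat_lit 136], nat_lit 0), ([nat_lit 16, nat_lit 136, nat_lit 61], nat_lit 0), ([nat_lit 106, nat_lit 136, nat_lit 76, nat_lit 16], nat_lit 0), ([nat_lit 151, nat_lit 76, nat_lit 151, nat_lit 106, nat_lit 151, nat_lit 16, nat_lit 76], nat_lit 0)]⟩,
  ⟨nat_lit 136, nat_lit 1, [([nat_lit 121], nat_lit 0), ([nat_lit 106, nat_lit 91, nat_lit 46, nat_lit 106, nat_lit 136], nat_lit 0), ([nat_lit 61, nat_lit 121, nat_lit 16], nat_lit 0), ([nat_lit 76, nat_lit 16, nat_lit 121, nat_lit 106], nat_lit 0), ([nat_lit 136, nat_lit 106, nat_lit 91, nat_lit 46, nat_lit 106], nat_lit 0)]⟩,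
  ⟨nat_lit 151, nat_lit 0, [([nat_lit 151], nat_lit 0), ([nat_lit 91, nat_lit 151, nat_lit 91, nat_lit 151, nat_lit 91], nat_lit 0), ([nat_lit 91, nat_lit 61, nat_lit 151, nat_lit 16, nat_lit 46, nat_lit 76], nat_lit 0), ([nat_lit 76, nat_lit 151, nat_lit 106, nat_lit 151, nat_lit 16, nat_lit 76, nat_lit 121], nat_lit 0), ([nat_lit 106, nat_lit 151, nat_lit 16, nat_lit 76, nat_lit 121, nat_lit 151, nat_lit 76], nat_lit 0), ([nat_lit 16, nat_lit 46, nat_lit 76, nat_lit 151, nat_lit 91, nat_lit 61], nat_lit 0)]⟩]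

noncomputable def erots : List (List ℕ × ℕ) := []

noncomputable def gens : List ℕ := [nat_lit 16, nat_lit 31, nat_lit 46, nat_lit 61, nat_lit 76, nat_lit 91, nat_lit 106, nat_lit 121, nat_lit 136, nat_lit 151]

noncomputable def chk : ℕ → Bool := chkRow0 row (nat_lit 30) (nat_lit 0x1f) (nat_lit 0x7e0) (nat_lit 11) (nat_lit 0xf) (nat_lit 0) (nat_lit 0x1f) (nat_lit 5) (nat_lit 0xff) (nat_lit 0xe000) [] cols gens

theorem b0 : allR chk 5 0 = true := by decide +kernel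

noncomputable def T : CT := ⟨row, nat_lit 30, nat_lit 30, nat_lit 0x1f, nat_lit 0x7e0, nat_lit 11, nat_lit 0xf, nat_lit 0, nat_lit 0x1f, nat_lit 5, nat_lit 0xff, nat_lit 0xe000, nat_lit 196, nat_lit 196, nat_lit 0, nat_lit 8, [], cols, erots, gens⟩

theorem all : ∀ c < 30, chk c = true := fun c hc =>
  allR_glue (d := 5) (n := 1) (forall_lt_succ' forall_lt_zero' b0) c (lt_of_lt_of_le hc (by norm_num))

/-- the relators used -/
def R : List (List ℕ) := [[nat_lit 0, nat_lit 1],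
  [nat_lit 0, nat_lit 0, nat_lit 0],
  [nat_lit 2, nat_lit 3],
  [nat_lit 2, nat_lit 2, nat_lit 2],
  [nat_lit 0, nat_lit 2, nat_lit 1, nat_lit 3],
  [nat_lit 4, nat_lit 4],
  [nat_lit 0, nat_lit 4, nat_lit 0, nat_lit 4],
  [nat_lit 2, nat_lit 4, nat_lit 2, nat_lit 4],
  [nat_lit 5, nat_lit 5],
  [nat_lit 2, nat_lit 5, nat_lit 2, nat_lit 5],
  [nat_lit 4, nat_lit 5, nat_lit 4, nat_lit 5, nat_lit 4, nat_lit 5],
  [nat_lit 0, nat_lit 5, nat_lit 0, nat_lit 5, nat_lit 1, nat_lit 5, nat_lit 1, nat_lit 5],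
  [nat_lit 6, nat_lit 6],
  [nat_lit 0, nat_lit 6, nat_lit 0, nat_lit 6],
  [nat_lit 4, nat_lit 5, nat_lit 6, nat_lit 4, nat_lit 5, nat_lit 6],
  [nat_lit 0, nat_lit 2, nat_lit 5, nat_lit 0, nat_lit 5, nat_lit 6, nat_lit 2, nat_lit 6],
  [nat_lit 7, nat_lit 8],
  [nat_lit 0, nat_lit 8, nat_lit 3, nat_lit 7],
  [nat_lit 0, nat_lit 7, nat_lit 6, nat_lit 8, nat_lit 4],
  [nat_lit 2, nat_lit 6, nat_lit 8, nat_lit 8, nat_lit 6, nat_lit 5],
  [nat_lit 9, nat_lit 9],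
  [nat_lit 0, nat_lit 2, nat_lit 4, nat_lit 9, nat_lit 5, nat_lit 3, nat_lit 9],
  [nat_lit 5, nat_lit 9, nat_lit 5, nat_lit 9, nat_lit 5, nat_lit 9],
  [nat_lit 0, nat_lit 4, nat_lit 7, nat_lit 9, nat_lit 4, nat_lit 9, nat_lit 6, nat_lit 9]]

theorem cert : Cert T (R.map fun r => (r, 0)) ([0, 1, 2, 3, 4, 5, 6, 7, 8].map fun y => (y, 0)) 16 15 [0, 1, 2, 3, 4, 5, 6, 7, 8, 9] :=
  ⟨by decide +kernel, ⟨[[(1, 0), (0, 0), (4, 0), (17, 0), (13, 0), (21, 0), (6, 0), (18, 0)], [(0, 1), (4, 2)], [(2, 0), (3, 0), (9, 0), (4, 1), (21, 1)], [(2, 1), (4, 3), (17, 2), (21, 5)], [(5, 0), (6, 1), (10, 0), (7, 1), (14, 0), (23, 4), (18, 4)], [(8, 0), (9, 1), (10, 1), (19, 5), (22, 0), (14, 1), (21, 4), (11, 3)], [(12, 0), (18, 2), (13, 1), (15, 5), (15, 7), (23, 6), (14, 2), (19, 1), (19, 4)], [(16, 0), (17, 3), (18, 1), (23, 2)], [(16, 1), (19, 3), (17, 1), (18, 3), (19, 2)], [(20, 0), (22, 1), (21, 3), (23, 3), (23, 5), (21, 6)]],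 [], by decide +kernel⟩, by decide +kernel, Or.inl ⟨rfl, all⟩⟩

theorem bound {Γ : Type*} [Group Γ] {x : ℕ → Γ} (hR : ∀ r ∈ R, ev x r = 1) {n : ℕ}
    (h : CardLe x [0, 1, 2, 3, 4, 5, 6, 7, 8] n) : CardLe x [0, 1, 2, 3, 4, 5, 6, 7, 8, 9] (30 * n) :=
  cert.cardLe rfl hR h

end Cfsg.Agent.L0.McLPc6
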