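import Cfsg.Agent.L0.TabPres
import Cfsg.Agent.H9.OutMcL
import Cfsg.Agent.L0.McL.Pc0
import Cfsg.Agent.L0.McL.Pc1
import Cfsg.Agent.L0.McL.Pc2
import Cfsg.Agent.L0.McL.Pc3
import Cfsg.Agent.L0.McL.Pc4
import Cfsg.Agent.L0.McL.Pc5
import Cfsg.Agent.L0.McL.Pc6
import Cfsg.Agent.L0.McL.Pc7
import Cfsg.Agent.L0.McL.Pc8

/-! A presentation on strong generators. -/

set_option autoImplicit false
set_option maxRecDepth 100000

namespace Cfsg.Agent.L0.McLPres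

/-- the generators as words -/
def W : List (List ℕ) := [[nat_lit 15, nat_lit 6, nat_lit 21, nat_lit 24, nat_lit 22, nat_lit 9],
  [nat_lit 20, nat_lit 30, nat_lit 29, nat_lit 26, nat_lit 24],
  [nat_lit 2, nat_lit 12, nat_lit 20, nat_lit 0, nat_lit 27, nat_lit 10, nat_lit 0],
  [nat_lit 4, nat_lit 8, nat_lit 10, nat_lit 11, nat_lit 19, nat_lit 13],
  [nat_lit 0, nat_lit 12, nat_lit 23, nat_lit 23, nat_lit 12, nat_lit 0],
  [nat_lit 6, nat_lit 28, nat_lit 22, nat_lit 11, nat_lit 1, nat_lit 13, nat_lit 0],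
  [nat_lit 5, nat_lit 18, nat_lit 27, nat_lit 15, nat_lit 1, nat_lit 18],
  [nat_lit 29, nat_lit 30, nat_lit 3, nat_lit 7, nat_lit 11, nat_lit 10],
  [nat_lit 14, nat_lit 15, nat_lit 29, nat_lit 8, nat_lit 22, nat_lit 10, nat_lit 0],
  [nat_lit 16, nat_lit 8, nat_lit 11, nat_lit 8, nat_lit 30, nat_lit 5, nat_lit 0],
  [nat_lit 21, nat_lit 25, nat_lit 28, nat_lit 5, nat_lit 3, nat_lit 18, nat_lit 0],
  [nat_lit 0, nat_lit 12, nat_lit 26, nat_lit 26, nat_lit 12, nat_lit 0]]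

/-- the relators -/
def R : List (List ℕ) := [[nat_lit 0, nat_lit 1],
  [nat_lit 1, nat_lit 0],
  [nat_lit 0, nat_lit 0, nat_lit 0],
  [nat_lit 2, nat_lit 3],
  [nat_lit 3, nat_lit 2],
  [nat_lit 2, nat_lit 2, nat_lit 2],
  [nat_lit 0, nat_lit 2, nat_lit 1, nat_lit 3],
  [nat_lit 4, nat_lit 4],
  [nat_lit 0, nat_lit 4, nat_lit 0, nat_lit 4],
  [nat_lit 2, nat_lit 4, nat_lit 2, nat_lit 4],
  [nat_lit 5, nat_lit 5],
  [nat_lit 2, nat_lit 5, nat_lit 2, nat_lit 5],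
  [nat_lit 4, nat_lit 5, nat_lit 4, nat_lit 5, nat_lit 4, nat_lit 5],
  [nat_lit 0, nat_lit 5, nat_lit 0, nat_lit 5, nat_lit 1, nat_lit 5, nat_lit 1, nat_lit 5],
  [nat_lit 0, nat_lit 4, nat_lit 5, nat_lit 0, nat_lit 4, nat_lit 5, nat_lit 4, nat_lit 1, nat_lit 5],
  [nat_lit 6, nat_lit 6],
  [nat_lit 0, nat_lit 6, nat_lit 0, nat_lit 6],
  [nat_lit 4, nat_lit 5, nat_lit 6, nat_lit 4, nat_lit 5, nat_lit 6],
  [nat_lit 4, nat_lit 6, nat_lit 4, nat_lit 6, nat_lit 4, nat_lit 6],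
  [nat_lit 0, nat_lit 2, nat_lit 5, nat_lit 0, nat_lit 5, nat_lit 6, nat_lit 2, nat_lit 6],
  [nat_lit 7, nat_lit 8],
  [nat_lit 8, nat_lit 7],
  [nat_lit 0, nat_lit 8, nat_lit 3, nat_lit 7],
  [nat_lit 0, nat_lit 7, nat_lit 6, nat_lit 8, nat_lit 4],
  [nat_lit 2, nat_lit 6, nat_lit 8, nat_lit 8, nat_lit 6, nat_lit 5],
  [nat_lit 9, nat_lit 9],
  [nat_lit 0, nat_lit 2, nat_lit 4, nat_lit 9, nat_lit 5, nat_lit 3, nat_lit 9],
  [nat_lit 5, nat_lit 9, nat_lit 5, nat_lit 9, nat_lit 5, nat_lit 9],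
  [nat_lit 0, nat_lit 4, nat_lit 7, nat_lit 9, nat_lit 4, nat_lit 9, nat_lit 6, nat_lit 9],
  [nat_lit 10, nat_lit 10],
  [nat_lit 2, nat_lit 10, nat_lit 5, nat_lit 10, nat_lit 4],
  [nat_lit 4, nat_lit 10, nat_lit 4, nat_lit 10, nat_lit 4, nat_lit 10],
  [nat_lit 0, nat_lit 10, nat_lit 9, nat_lit 10, nat_lit 6, nat_lit 5, nat_lit 9, nat_lit 5],
  [nat_lit 0, nat_lit 2, nat_lit 9, nat_lit 5, nat_lit 10, nat_lit 7, nat_lit 3, nat_lit 10, nat_lit 9, nat_lit 1, nat_lit 10],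
  [nat_lit 11, nat_lit 11],
  [nat_lit 0, nat_lit 11, nat_lit 1, nat_lit 11, nat_lit 4, nat_lit 11],
  [nat_lit 0, nat_lit 2, nat_lit 11, nat_lit 0, nat_lit 2, nat_lit 11, nat_lit 2, nat_lit 0, nat_lit 11],
  [nat_lit 0, nat_lit 11, nat_lit 10, nat_lit 2, nat_lit 10, nat_lit 11, nat_lit 5, nat_lit 4, nat_lit 10],
  [nat_lit 0, nat_lit 2, nat_lit 11, nat_lit 0, nat_lit 5, nat_lit 6, nat_lit 3, nat_lit 11, nat_lit 4, nat_lit 5],
  [nat_lit 0, nat_lit 4, nat_lit 9, nat_lit 11, nat_lit 1, nat_lit 10, nat_lit 9, nat_lit 10, nat_lit 0, nat_lit 11, nat_lit 5]]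

/-- the stabiliser chain -/
noncomputable def lv : List (List (List ℕ) × ℕ × List (ℕ × List ℕ)) := [([[nat_lit 0], [nat_lit 1], [nat_lit 2], [nat_lit 3], [nat_lit 4], [nat_lit 5], [nat_lit 6], [nat_lit 7], [nat_lit 8], [nat_lit 9], [nat_lit 10], [nat_lit 11]], nat_lit 0, [(nat_lit 0, []), (nat_lit 1, [nat_lit 8, nat_lit 10, nat_lit 5, nat_lit 11]), (nat_lit 2, [nat_lit 3, nat_lit 10, nat_lit 8, nat_lit 11]), (nat_lit 3, [nat_lit 8, nat_lit 1, nat_lit 10, nat_lit 11]), (nat_lit 4, [nat_lit 11, nat_lit 1, nat_lit 10, nat_lit 11]), (nat_lit 5, [nat_lit 11, nat_lit 6, nat_lit 10, nat_lit 11]), (nat_lit 6, [nat_lit 10, nat_lit 8, nat_lit 11, nat_lit 10, nat_lit 8, nat_lit 11]), (nat_lit 7, [nat_lit 10, nat_lit 5, nat_lit 11]), (nat_lit 8, [nat_lit 7, nat_lit 7, nat_lit 10, nat_lit 11]), (nat_lit 9, [nat_lit 2, nat_lit 10, nat_lit 3, nat_lit 1, nat_lit 11]), (nat_lit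 10, [nat_lit 3, nat_lit 8, nat_lit 11]), (nat_lit 11, [nat_lit 10, nat_lit 7, nat_lit 1, nat_lit 11]), (nat_lit 12, [nat_lit 8, nat_lit 5, nat_lit 10, nat_lit 11]), (nat_lit 13, [nat_lit 6, nat_lit 10, nat_lit 9, nat_lit 1, nat_lit 11]), (nat_lit 14, [nat_lit 5, nat_lit 10, nat_lit 11]), (nat_lit 15, [nat_lit 8, nat_lit 11, nat_lit 10, nat_lit 3, nat_lit 1, nat_lit 11]), (nat_lit 16, [nat_lit 6, nat_lit 10, nat_lit 1, nat_lit 11]), (nat_lit 17, [nat_lit 8, nat_lit 0, nat_lit 10, nat_lit 11]), (nat_lit 18, [nat_lit 11, nat_lit 0, nat_lit 10, nat_lit 11]), (nat_lit 19, [nat_lit 7, nat_lit 9, nat_lit 11]), (nat_lit 20, [nat_lit 1, nat_lit 10, nat_lit 5, nat_lit 11]), (nat_lit 21, [nat_lit 2, nat_lit 6, nat_lit 5, nat_lit 11]), (nat_lit 22, [nat_lit 8, nat_lit 10, nat_lit 11]), (nat_lit 23, [nat_lit 10, nat_lit 3, nat_lit 1, nat_lit 11]), (nat_lit 24, [nat_lit 10, nat_lit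 7, nat_lit 2, nat_lit 1, nat_lit 11]), (nat_lit 25, [nat_lit 8, nat_lit 11, nat_lit 10, nat_lit 9, nat_lit 11]), (nat_lit 26, [nat_lit 5, nat_lit 0, nat_lit 10, nat_lit 11]), (nat_lit 27, [nat_lit 7, nat_lit 11, nat_lit 6, nat_lit 10, nat_lit 1, nat_lit 11]), (nat_lit 28, [nat_lit 8, nat_lit 9, nat_lit 11]), (nat_lit 29, [nat_lit 4, nat_lit 6, nat_lit 10, nat_lit 11]), (nat_lit 30, [nat_lit 7, nat_lit 11, nat_lit 0, nat_lit 10, nat_lit 11]), (nat_lit 31, [nat_lit 10, nat_lit 7, nat_lit 11]), (nat_lit 32, [nat_lit 11, nat_lit 2, nat_lit 9, nat_lit 11]), (nat_lit 33, [nat_lit 2, nat_lit 10, nat_lit 8, nat_lit 11]), (nat_lit 34, [nat_lit 0, nat_lit 5, nat_lit 11]), (nat_lit 35, [nat_lit 1, nat_lit 10, nat_lit 1, nat_lit 11]), (nat_lit 36, [nat_lit 8, nat_lit 10, nat_lit 8, nat_lit 2, nat_lit 11]), (nat_lit 37, [nat_lit 10, nat_lit 6, nat_lit 10, nat_lit 11]), (nat_lit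 38, [nat_lit 8, nat_lit 3, nat_lit 11]), (nat_lit 39, [nat_lit 5, nat_lit 2, nat_lit 11]), (nat_lit 40, [nat_lit 10, nat_lit 9, nat_lit 5, nat_lit 11]), (nat_lit 41, [nat_lit 9, nat_lit 11, nat_lit 10, nat_lit 9, nat_lit 11]), (nat_lit 42, [nat_lit 11, nat_lit 10, nat_lit 1, nat_lit 11]), (nat_lit 43, [nat_lit 2, nat_lit 1, nat_lit 11]), (nat_lit 44, [nat_lit 9, nat_lit 10, nat_lit 11]), (nat_lit 45, [nat_lit 7, nat_lit 11, nat_lit 10, nat_lit 1, nat_lit 11]), (nat_lit 46, [nat_lit 9, nat_lit 10, nat_lit 5, nat_lit 11]), (nat_lit 47, [nat_lit 7, nat_lit 7, nat_lit 11, nat_lit 10, nat_lit 1, nat_lit 11]), (nat_lit 48, [nat_lit 10, nat_lit 3, nat_lit 11, nat_lit 8, nat_lit 11]), (nat_lit 49, [nat_lit 7, nat_lit 0, nat_lit 11]), (nat_lit 50, [nat_lit 9, nat_lit 3, nat_lit 11]), (nat_lit 51, [nat_lit 1, nat_lit 11, nat_lit 10, nat_lit 8, nat_lit 11]), (nat_lit 52, [nat_lit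 6, nat_lit 10, nat_lit 9, nat_lit 11]), (nat_lit 53, [nat_lit 6, nat_lit 11, nat_lit 10, nat_lit 11]), (nat_lit 54, [nat_lit 8, nat_lit 11, nat_lit 10, nat_lit 8, nat_lit 11]), (nat_lit 55, [nat_lit 4, nat_lit 10, nat_lit 8, nat_lit 11]), (nat_lit 56, [nat_lit 0, nat_lit 9, nat_lit 10, nat_lit 1, nat_lit 11]), (nat_lit 57, [nat_lit 8, nat_lit 10, nat_lit 8, nat_lit 3, nat_lit 11]), (nat_lit 58, [nat_lit 5, nat_lit 11, nat_lit 10, nat_lit 8, nat_lit 11]), (nat_lit 59, [nat_lit 3, nat_lit 0, nat_lit 11]), (nat_lit 60, [nat_lit 5, nat_lit 6, nat_lit 10, nat_lit 11]), (nat_lit 61, [nat_lit 9, nat_lit 11]), (nat_lit 62, [nat_lit 0, nat_lit 10, nat_lit 11, nat_lit 8, nat_lit 11]), (nat_lit 63, [nat_lit 10, nat_lit 11, nat_lit 0, nat_lit 10, nat_lit 11]), (nat_lit 64, [nat_lit 7, nat_lit 1, nat_lit 11]), (nat_lit 65, [nat_lit 0, nat_lit 7, nat_lit 11]), (nat_lit 66, [nat_lit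 3, nat_lit 11, nat_lit 10, nat_lit 1, nat_lit 11]), (nat_lit 67, [nat_lit 7, nat_lit 10, nat_lit 2, nat_lit 1, nat_lit 11]), (nat_lit 68, [nat_lit 7, nat_lit 5, nat_lit 1, nat_lit 11]), (nat_lit 69, [nat_lit 1, nat_lit 11]), (nat_lit 70, [nat_lit 10, nat_lit 1, nat_lit 11, nat_lit 7, nat_lit 11]), (nat_lit 71, [nat_lit 9, nat_lit 5, nat_lit 11]), (nat_lit 72, [nat_lit 10, nat_lit 0, nat_lit 5, nat_lit 11]), (nat_lit 73, [nat_lit 0, nat_lit 10, nat_lit 3, nat_lit 11, nat_lit 7, nat_lit 11]), (nat_lit 74, [nat_lit 3, nat_lit 11, nat_lit 10, nat_lit 9, nat_lit 11]), (nat_lit 75, [nat_lit 5, nat_lit 9, nat_lit 0, nat_lit 11]), (nat_lit 76, [nat_lit 0, nat_lit 11, nat_lit 7, nat_lit 3, nat_lit 11]), (nat_lit 77, [nat_lit 7, nat_lit 7, nat_lit 0, nat_lit 11]), (nat_lit 78, [nat_lit 9, nat_lit 10, nat_lit 11, nat_lit 10, nat_lit 1, nat_lit 11]), (nat_lit 79, [nat_lit 3,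 nat_lit 11, nat_lit 8, nat_lit 11]), (nat_lit 80, [nat_lit 9, nat_lit 10, nat_lit 8, nat_lit 11]), (nat_lit 81, [nat_lit 8, nat_lit 10, nat_lit 8, nat_lit 11]), (nat_lit 82, [nat_lit 0, nat_lit 10, nat_lit 8, nat_lit 11]), (nat_lit 83, [nat_lit 9, nat_lit 6, nat_lit 10, nat_lit 1, nat_lit 11]), (nat_lit 84, [nat_lit 11, nat_lit 10, nat_lit 3, nat_lit 1, nat_lit 11]), (nat_lit 85, [nat_lit 11]), (nat_lit 86, [nat_lit 11, nat_lit 8, nat_lit 10, nat_lit 5, nat_lit 11]), (nat_lit 87, [nat_lit 10, nat_lit 11]), (nat_lit 88, [nat_lit 2, nat_lit 8, nat_lit 0, nat_lit 11]), (nat_lit 89, [nat_lit 1, nat_lit 5, nat_lit 11]), (nat_lit 90, [nat_lit 10, nat_lit 1, nat_lit 5, nat_lit 11]), (nat_lit 91, [nat_lit 7, nat_lit 5, nat_lit 11]), (nat_lit 92, [nat_lit 11, nat_lit 10, nat_lit 7, nat_lit 2, nat_lit 11]), (nat_lit 93, [nat_lit 9, nat_lit 10, nat_lit 1, nat_lit 11]), (nat_lit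 94, [nat_lit 8, nat_lit 2, nat_lit 11]), (nat_lit 95, [nat_lit 11, nat_lit 0, nat_lit 10, nat_lit 9, nat_lit 11]), (nat_lit 96, [nat_lit 6, nat_lit 3, nat_lit 0, nat_lit 11]), (nat_lit 97, [nat_lit 11, nat_lit 10, nat_lit 3, nat_lit 8, nat_lit 11]), (nat_lit 98, [nat_lit 10, nat_lit 11, nat_lit 9, nat_lit 3, nat_lit 11]), (nat_lit 99, [nat_lit 7, nat_lit 10, nat_lit 0, nat_lit 7, nat_lit 11]), (nat_lit 100, [nat_lit 11, nat_lit 1, nat_lit 9, nat_lit 10, nat_lit 1, nat_lit 11]), (nat_lit 101, [nat_lit 9, nat_lit 7, nat_lit 11]), (nat_lit 102, [nat_lit 11, nat_lit 9, nat_lit 10, nat_lit 11]), (nat_lit 103, [nat_lit 10, nat_lit 9, nat_lit 11, nat_lit 8, nat_lit 11]), (nat_lit 104, [nat_lit 11, nat_lit 7, nat_lit 0, nat_lit 11]), (nat_lit 105, [nat_lit 3, nat_lit 11]), (nat_lit 106, [nat_lit 11, nat_lit 9, nat_lit 7, nat_lit 11]), (nat_lit 107, [nat_lit 1, nat_lit 11,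 nat_lit 8, nat_lit 11]), (nat_lit 108, [nat_lit 9, nat_lit 1, nat_lit 11]), (nat_lit 109, [nat_lit 7, nat_lit 7, nat_lit 11]), (nat_lit 110, [nat_lit 3, nat_lit 10, nat_lit 1, nat_lit 5, nat_lit 11]), (nat_lit 111, [nat_lit 8, nat_lit 11, nat_lit 7, nat_lit 11]), (nat_lit 112, [nat_lit 6, nat_lit 11, nat_lit 9, nat_lit 10, nat_lit 11]), (nat_lit 113, [nat_lit 11, nat_lit 4, nat_lit 10, nat_lit 8, nat_lit 11]), (nat_lit 114, [nat_lit 5, nat_lit 11, nat_lit 10, nat_lit 1, nat_lit 11]), (nat_lit 115, [nat_lit 6, nat_lit 9, nat_lit 0, nat_lit 11]), (nat_lit 116, [nat_lit 3, nat_lit 11, nat_lit 9, nat_lit 3, nat_lit 11]), (nat_lit 117, [nat_lit 3, nat_lit 11, nat_lit 9, nat_lit 10, nat_lit 1, nat_lit 11]), (nat_lit 118, [nat_lit 9, nat_lit 0, nat_lit 11]), (nat_lit 119, [nat_lit 0, nat_lit 11, nat_lit 7, nat_lit 11]), (nat_lit 120, [nat_lit 3, nat_lit 9, nat_lit 10,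 nat_lit 5, nat_lit 11]), (nat_lit 121, [nat_lit 2, nat_lit 11, nat_lit 10, nat_lit 1, nat_lit 11]), (nat_lit 122, [nat_lit 8, nat_lit 10, nat_lit 7, nat_lit 1, nat_lit 11]), (nat_lit 123, [nat_lit 10, nat_lit 9, nat_lit 11]), (nat_lit 124, [nat_lit 10, nat_lit 3, nat_lit 8, nat_lit 11]), (nat_lit 125, [nat_lit 5, nat_lit 3, nat_lit 1, nat_lit 11]), (nat_lit 126, [nat_lit 10, nat_lit 7, nat_lit 2, nat_lit 11]), (nat_lit 127, [nat_lit 11, nat_lit 6, nat_lit 10, nat_lit 8, nat_lit 11]), (nat_lit 128, [nat_lit 7, nat_lit 2, nat_lit 11]), (nat_lit 129, [nat_lit 2, nat_lit 9, nat_lit 11]), (nat_lit 130, [nat_lit 6, nat_lit 10, nat_lit 8, nat_lit 11]), (nat_lit 131, [nat_lit 10, nat_lit 11, nat_lit 8, nat_lit 11]), (nat_lit 132, [nat_lit 7, nat_lit 10, nat_lit 11]), (nat_lit 133, [nat_lit 2, nat_lit 8, nat_lit 11, nat_lit 10, nat_lit 1, nat_lit 11]), (nat_lit 134, [nat_lit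 3, nat_lit 1, nat_lit 11]), (nat_lit 135, [nat_lit 8, nat_lit 10, nat_lit 0, nat_lit 11]), (nat_lit 136, [nat_lit 10, nat_lit 11, nat_lit 2, nat_lit 9, nat_lit 11]), (nat_lit 137, [nat_lit 1, nat_lit 5, nat_lit 11, nat_lit 10, nat_lit 1, nat_lit 11]), (nat_lit 138, [nat_lit 7, nat_lit 11]), (nat_lit 139, [nat_lit 10, nat_lit 6, nat_lit 5, nat_lit 11]), (nat_lit 140, [nat_lit 9, nat_lit 2, nat_lit 0, nat_lit 11]), (nat_lit 141, [nat_lit 3, nat_lit 11, nat_lit 10, nat_lit 2, nat_lit 1, nat_lit 11]), (nat_lit 142, [nat_lit 11, nat_lit 10, nat_lit 9, nat_lit 5, nat_lit 11]), (nat_lit 143, [nat_lit 4, nat_lit 11, nat_lit 9, nat_lit 7, nat_lit 11]), (nat_lit 144, [nat_lit 10, nat_lit 0, nat_lit 11, nat_lit 7, nat_lit 3, nat_lit 11]), (nat_lit 145, [nat_lit 0, nat_lit 11]), (nat_lit 146, [nat_lit 7, nat_lit 9, nat_lit 0, nat_lit 11]), (nat_lit 147, [nat_lit 2, nat_lit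 11, nat_lit 8, nat_lit 11]), (nat_lit 148, [nat_lit 5, nat_lit 11]), (nat_lit 149, [nat_lit 8, nat_lit 9, nat_lit 1, nat_lit 11]), (nat_lit 150, [nat_lit 3, nat_lit 10, nat_lit 2, nat_lit 1, nat_lit 11]), (nat_lit 151, [nat_lit 11, nat_lit 7, nat_lit 1, nat_lit 11]), (nat_lit 152, [nat_lit 5, nat_lit 11, nat_lit 0, nat_lit 10, nat_lit 11]), (nat_lit 153, [nat_lit 0, nat_lit 11, nat_lit 9, nat_lit 10, nat_lit 11]), (nat_lit 154, [nat_lit 11, nat_lit 8, nat_lit 11]), (nat_lit 155, [nat_lit 10, nat_lit 8, nat_lit 11, nat_lit 10, nat_lit 1, nat_lit 11]), (nat_lit 156, [nat_lit 5, nat_lit 11, nat_lit 9, nat_lit 3, nat_lit 11]), (nat_lit 157, [nat_lit 8, nat_lit 11, nat_lit 9, nat_lit 10, nat_lit 11]), (nat_lit 158, [nat_lit 1, nat_lit 9, nat_lit 8, nat_lit 11]), (nat_lit 159, [nat_lit 9, nat_lit 11, nat_lit 7, nat_lit 3, nat_lit 11]), (nat_lit 160, [nat_lit 11, nat_lit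 10, nat_lit 11]), (nat_lit 161, [nat_lit 9, nat_lit 2, nat_lit 1, nat_lit 11]), (nat_lit 162, [nat_lit 7, nat_lit 10, nat_lit 3, nat_lit 11, nat_lit 7, nat_lit 11]), (nat_lit 163, [nat_lit 11, nat_lit 9, nat_lit 10, nat_lit 1, nat_lit 11]), (nat_lit 164, [nat_lit 2, nat_lit 9, nat_lit 0, nat_lit 11]), (nat_lit 165, [nat_lit 11, nat_lit 7, nat_lit 10, nat_lit 11]), (nat_lit 166, [nat_lit 7, nat_lit 11, nat_lit 7, nat_lit 11]), (nat_lit 167, [nat_lit 1, nat_lit 9, nat_lit 0, nat_lit 11]), (nat_lit 168, [nat_lit 11, nat_lit 7, nat_lit 11]), (nat_lit 169, [nat_lit 10, nat_lit 9, nat_lit 0, nat_lit 11]), (nat_lit 170, [nat_lit 11, nat_lit 7, nat_lit 3, nat_lit 11]), (nat_lit 171, [nat_lit 10, nat_lit 11, nat_lit 9, nat_lit 7, nat_lit 11]), (nat_lit 172, [nat_lit 10, nat_lit 3, nat_lit 11, nat_lit 7, nat_lit 11]), (nat_lit 173, [nat_lit 4, nat_lit 9, nat_lit 1, nat_lit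 11]), (nat_lit 174, [nat_lit 4, nat_lit 11, nat_lit 8, nat_lit 11]), (nat_lit 175, [nat_lit 9, nat_lit 11, nat_lit 8, nat_lit 11]), (nat_lit 176, [nat_lit 8, nat_lit 3, nat_lit 11, nat_lit 10, nat_lit 1, nat_lit 11]), (nat_lit 177, [nat_lit 10, nat_lit 2, nat_lit 1, nat_lit 11]), (nat_lit 178, [nat_lit 10, nat_lit 4, nat_lit 11, nat_lit 9, nat_lit 7, nat_lit 11]), (nat_lit 179, [nat_lit 2, nat_lit 0, nat_lit 11]), (nat_lit 180, [nat_lit 11, nat_lit 10, nat_lit 2, nat_lit 1, nat_lit 11]), (nat_lit 181, [nat_lit 7, nat_lit 11, nat_lit 8, nat_lit 11]), (nat_lit 182, [nat_lit 11, nat_lit 6, nat_lit 10, nat_lit 1, nat_lit 11]), (nat_lit 183, [nat_lit 9, nat_lit 3, nat_lit 0, nat_lit 11]), (nat_lit 184, [nat_lit 5, nat_lit 1, nat_lit 11]), (nat_lit 185, [nat_lit 9, nat_lit 7, nat_lit 0, nat_lit 11]), (nat_lit 186, [nat_lit 10, nat_lit 11, nat_lit 10, nat_lit 1, nat_lit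 11]), (nat_lit 187, [nat_lit 11, nat_lit 10, nat_lit 9, nat_lit 11]), (nat_lit 188, [nat_lit 10, nat_lit 8, nat_lit 3, nat_lit 11]), (nat_lit 189, [nat_lit 10, nat_lit 0, nat_lit 11]), (nat_lit 190, [nat_lit 6, nat_lit 5, nat_lit 11]), (nat_lit 191, [nat_lit 0, nat_lit 10, nat_lit 9, nat_lit 11]), (nat_lit 192, [nat_lit 9, nat_lit 0, nat_lit 10, nat_lit 11]), (nat_lit 193, [nat_lit 7, nat_lit 10, nat_lit 8, nat_lit 11]), (nat_lit 194, [nat_lit 0, nat_lit 10, nat_lit 1, nat_lit 11]), (nat_lit 195, [nat_lit 10, nat_lit 5, nat_lit 1, nat_lit 11]), (nat_lit 196, [nat_lit 0, nat_lit 10, nat_lit 11]), (nat_lit 197, [nat_lit 6, nat_lit 10, nat_lit 11]), (nat_lit 198, [nat_lit 3, nat_lit 0, nat_lit 11, nat_lit 7, nat_lit 11]), (nat_lit 199, [nat_lit 7, nat_lit 9, nat_lit 11, nat_lit 8, nat_lit 11]), (nat_lit 200, [nat_lit 10, nat_lit 11, nat_lit 7, nat_lit 11]), (nat_lit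 201, [nat_lit 0, nat_lit 11, nat_lit 8, nat_lit 11]), (nat_lit 202, [nat_lit 0, nat_lit 11, nat_lit 10, nat_lit 9, nat_lit 5, nat_lit 11]), (nat_lit 203, [nat_lit 9, nat_lit 7, nat_lit 5, nat_lit 11]), (nat_lit 204, [nat_lit 5, nat_lit 9, nat_lit 5, nat_lit 11]), (nat_lit 205, [nat_lit 3, nat_lit 11, nat_lit 9, nat_lit 7, nat_lit 11]), (nat_lit 206, [nat_lit 11, nat_lit 3, nat_lit 9, nat_lit 1, nat_lit 11]), (nat_lit 207, [nat_lit 10, nat_lit 0, nat_lit 11, nat_lit 8, nat_lit 11]), (nat_lit 208, [nat_lit 10, nat_lit 8, nat_lit 0, nat_lit 11]), (nat_lit 209, [nat_lit 11, nat_lit 10, nat_lit 9, nat_lit 8, nat_lit 11]), (nat_lit 210, [nat_lit 3, nat_lit 9, nat_lit 1, nat_lit 11]), (nat_lit 211, [nat_lit 3, nat_lit 10, nat_lit 11, nat_lit 9, nat_lit 7, nat_lit 11]), (nat_lit 212, [nat_lit 11, nat_lit 10, nat_lit 0, nat_lit 7, nat_lit 11]), (nat_lit 213, [nat_lit 11,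 nat_lit 8, nat_lit 0, nat_lit 11]), (nat_lit 214, [nat_lit 3, nat_lit 11, nat_lit 7, nat_lit 11]), (nat_lit 215, [nat_lit 9, nat_lit 11, nat_lit 7, nat_lit 10, nat_lit 11]), (nat_lit 216, [nat_lit 11, nat_lit 9, nat_lit 0, nat_lit 11]), (nat_lit 217, [nat_lit 1, nat_lit 7, nat_lit 0, nat_lit 11]), (nat_lit 218, [nat_lit 8, nat_lit 11, nat_lit 8, nat_lit 11]), (nat_lit 219, [nat_lit 2, nat_lit 11]), (nat_lit 220, [nat_lit 8, nat_lit 0, nat_lit 11, nat_lit 10, nat_lit 1, nat_lit 11]), (nat_lit 221, [nat_lit 9, nat_lit 11, nat_lit 0, nat_lit 10, nat_lit 11]), (nat_lit 222, [nat_lit 10, nat_lit 1, nat_lit 10, nat_lit 11]), (nat_lit 223, [nat_lit 0, nat_lit 11, nat_lit 10, nat_lit 1, nat_lit 11]), (nat_lit 224, [nat_lit 6, nat_lit 9, nat_lit 2, nat_lit 11]), (nat_lit 225, [nat_lit 3, nat_lit 9, nat_lit 10, nat_lit 1, nat_lit 11]), (nat_lit 226, [nat_lit 11, nat_lit 9,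 nat_lit 3, nat_lit 11]), (nat_lit 227, [nat_lit 11, nat_lit 10, nat_lit 9, nat_lit 1, nat_lit 11]), (nat_lit 228, [nat_lit 7, nat_lit 3, nat_lit 11]), (nat_lit 229, [nat_lit 10, nat_lit 3, nat_lit 11, nat_lit 9, nat_lit 3, nat_lit 11]), (nat_lit 230, [nat_lit 11, nat_lit 3, nat_lit 11]), (nat_lit 231, [nat_lit 11, nat_lit 10, nat_lit 6, nat_lit 5, nat_lit 11]), (nat_lit 232, [nat_lit 9, nat_lit 2, nat_lit 11]), (nat_lit 233, [nat_lit 10, nat_lit 9, nat_lit 1, nat_lit 11]), (nat_lit 234, [nat_lit 10, nat_lit 7, nat_lit 7, nat_lit 11]), (nat_lit 235, [nat_lit 10, nat_lit 8, nat_lit 11, nat_lit 8, nat_lit 11]), (nat_lit 236, [nat_lit 10, nat_lit 8, nat_lit 5, nat_lit 11]), (nat_lit 237, [nat_lit 3, nat_lit 8, nat_lit 0, nat_lit 11]), (nat_lit 238, [nat_lit 0, nat_lit 9, nat_lit 0, nat_lit 11]), (nat_lit 239, [nat_lit 0, nat_lit 11, nat_lit 10, nat_lit 7, nat_lit 2,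 nat_lit 11]), (nat_lit 240, [nat_lit 1, nat_lit 11, nat_lit 7, nat_lit 11]), (nat_lit 241, [nat_lit 0, nat_lit 11, nat_lit 10, nat_lit 9, nat_lit 11]), (nat_lit 242, [nat_lit 10, nat_lit 0, nat_lit 7, nat_lit 11]), (nat_lit 243, [nat_lit 6, nat_lit 3, nat_lit 1, nat_lit 11]), (nat_lit 244, [nat_lit 7, nat_lit 11, nat_lit 3, nat_lit 11]), (nat_lit 245, [nat_lit 7, nat_lit 10, nat_lit 9, nat_lit 8, nat_lit 11]), (nat_lit 246, [nat_lit 11, nat_lit 8, nat_lit 11, nat_lit 10, nat_lit 1, nat_lit 11]), (nat_lit 247, [nat_lit 7, nat_lit 11, nat_lit 7, nat_lit 10, nat_lit 11]), (nat_lit 248, [nat_lit 8, nat_lit 11]), (nat_lit 249, [nat_lit 10, nat_lit 8, nat_lit 11]), (nat_lit 250, [nat_lit 11, nat_lit 7, nat_lit 11, nat_lit 10, nat_lit 1, nat_lit 11]), (nat_lit 251, [nat_lit 4, nat_lit 7, nat_lit 0, nat_lit 11]), (nat_lit 252, [nat_lit 1, nat_lit 9, nat_lit 10, nat_lit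 1, nat_lit 11]), (nat_lit 253, [nat_lit 11, nat_lit 10, nat_lit 5, nat_lit 11]), (nat_lit 254, [nat_lit 11, nat_lit 10, nat_lit 0, nat_lit 5, nat_lit 11]), (nat_lit 255, [nat_lit 2, nat_lit 11, nat_lit 7, nat_lit 11]), (nat_lit 256, [nat_lit 8, nat_lit 0, nat_lit 11]), (nat_lit 257, [nat_lit 9, nat_lit 11, nat_lit 10, nat_lit 8, nat_lit 11]), (nat_lit 258, [nat_lit 10, nat_lit 9, nat_lit 8, nat_lit 11]), (nat_lit 259, [nat_lit 3, nat_lit 11, nat_lit 10, nat_lit 7, nat_lit 2, nat_lit 11]), (nat_lit 260, [nat_lit 9, nat_lit 8, nat_lit 11]), (nat_lit 261, [nat_lit 5, nat_lit 9, nat_lit 11]), (nat_lit 262, [nat_lit 1, nat_lit 10, nat_lit 9, nat_lit 11]), (nat_lit 263, [nat_lit 11, nat_lit 10, nat_lit 8, nat_lit 11]), (nat_lit 264, [nat_lit 8, nat_lit 5, nat_lit 11]), (nat_lit 265, [nat_lit 3, nat_lit 10, nat_lit 9, nat_lit 1, nat_lit 11]), (nat_lit 266, [nat_lit 1,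 nat_lit 7, nat_lit 11]), (nat_lit 267, [nat_lit 10, nat_lit 8, nat_lit 2, nat_lit 11]), (nat_lit 268, [nat_lit 11, nat_lit 2, nat_lit 10, nat_lit 8, nat_lit 11]), (nat_lit 269, [nat_lit 1, nat_lit 10, nat_lit 11]), (nat_lit 270, [nat_lit 8, nat_lit 11, nat_lit 10, nat_lit 1, nat_lit 11]), (nat_lit 271, [nat_lit 7, nat_lit 2, nat_lit 1, nat_lit 11]), (nat_lit 272, [nat_lit 0, nat_lit 10, nat_lit 8, nat_lit 3, nat_lit 11]), (nat_lit 273, [nat_lit 4, nat_lit 10, nat_lit 1, nat_lit 11]), (nat_lit 274, [nat_lit 10, nat_lit 1, nat_lit 11])]),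
  ([[nat_lit 0], [nat_lit 1], [nat_lit 2], [nat_lit 3], [nat_lit 4], [nat_lit 5], [nat_lit 6], [nat_lit 7], [nat_lit 8], [nat_lit 9], [nat_lit 10]], nat_lit 6, [(nat_lit 6, []), (nat_lit 15, [nat_lit 7, nat_lit 5, nat_lit 0, nat_lit 10]), (nat_lit 18, [nat_lit 5, nat_lit 3, nat_lit 1, nat_lit 10]), (nat_lit 25, [nat_lit 3, nat_lit 9, nat_lit 0, nat_lit 10]), (nat_lit 27, [nat_lit 5, nat_lit 8, nat_lit 10]), (nat_lit 30, [nat_lit 3, nat_lit 8, nat_lit 10]), (nat_lit 32, [nat_lit 10, nat_lit 1, nat_lit 5, nat_lit 1, nat_lit 10]), (nat_lit 41, [nat_lit 4, nat_lit 0, nat_lit 10]), (nat_lit 42, [nat_lit 10, nat_lit 1, nat_lit 10]), (nat_lit 45, [nat_lit 8, nat_lit 3, nat_lit 10]), (nat_lit 47, [nat_lit 3, nat_lit 10]), (nat_lit 48, [nat_lit 7, nat_lit 4, nat_lit 0, nat_lit 10]), (nat_lit 51, [nat_lit 1, nat_lit 7, nat_lit 10]), (nat_lit 54, [nat_lit 10]), (nat_lit 58,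 [nat_lit 8, nat_lit 1, nat_lit 10]), (nat_lit 62, [nat_lit 5, nat_lit 6, nat_lit 7, nat_lit 10]), (nat_lit 63, [nat_lit 1, nat_lit 5, nat_lit 0, nat_lit 10]), (nat_lit 66, [nat_lit 5, nat_lit 3, nat_lit 0, nat_lit 10]), (nat_lit 70, [nat_lit 4, nat_lit 7, nat_lit 10]), (nat_lit 73, [nat_lit 9, nat_lit 0, nat_lit 7, nat_lit 10]), (nat_lit 74, [nat_lit 8, nat_lit 1, nat_lit 7, nat_lit 10]), (nat_lit 76, [nat_lit 9, nat_lit 10, nat_lit 7, nat_lit 0, nat_lit 10]), (nat_lit 78, [nat_lit 9, nat_lit 1, nat_lit 10]), (nat_lit 79, [nat_lit 10, nat_lit 7, nat_lit 4, nat_lit 0, nat_lit 10]), (nat_lit 84, [nat_lit 6, nat_lit 3, nat_lit 0, nat_lit 10]), (nat_lit 86, [nat_lit 3, nat_lit 0, nat_lit 10]), (nat_lit 92, [nat_lit 6, nat_lit 7, nat_lit 10]), (nat_lit 95, [nat_lit 6, nat_lit 4, nat_lit 0, nat_lit 10]), (nat_lit 97, [nat_lit 7, nat_lit 1, nat_lit 10]), (nat_lit 98, [nat_lit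 8, nat_lit 3, nat_lit 1, nat_lit 10]), (nat_lit 100, [nat_lit 9, nat_lit 6, nat_lit 2, nat_lit 10]), (nat_lit 102, [nat_lit 9, nat_lit 4, nat_lit 7, nat_lit 10]), (nat_lit 103, [nat_lit 0, nat_lit 5, nat_lit 0, nat_lit 10]), (nat_lit 106, [nat_lit 6, nat_lit 10, nat_lit 7, nat_lit 1, nat_lit 10]), (nat_lit 107, [nat_lit 2, nat_lit 10, nat_lit 7, nat_lit 0, nat_lit 10]), (nat_lit 111, [nat_lit 9, nat_lit 10, nat_lit 4, nat_lit 7, nat_lit 10]), (nat_lit 112, [nat_lit 8, nat_lit 10, nat_lit 9, nat_lit 0, nat_lit 10]), (nat_lit 113, [nat_lit 2, nat_lit 10, nat_lit 8, nat_lit 0, nat_lit 10]), (nat_lit 114, [nat_lit 2, nat_lit 0, nat_lit 10]), (nat_lit 116, [nat_lit 1, nat_lit 10, nat_lit 7, nat_lit 1, nat_lit 10]), (nat_lit 117, [nat_lit 7, nat_lit 9, nat_lit 1, nat_lit 10]), (nat_lit 119, [nat_lit 10, nat_lit 9, nat_lit 4, nat_lit 7, nat_lit 10]), (nat_lit 121, [nat_lit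 5, nat_lit 0, nat_lit 10]), (nat_lit 127, [nat_lit 0, nat_lit 7, nat_lit 10]), (nat_lit 131, [nat_lit 7, nat_lit 2, nat_lit 0, nat_lit 10]), (nat_lit 133, [nat_lit 9, nat_lit 3, nat_lit 10]), (nat_lit 136, [nat_lit 1, nat_lit 5, nat_lit 1, nat_lit 10]), (nat_lit 137, [nat_lit 2, nat_lit 10]), (nat_lit 141, [nat_lit 6, nat_lit 3, nat_lit 10]), (nat_lit 142, [nat_lit 9, nat_lit 3, nat_lit 1, nat_lit 10]), (nat_lit 143, [nat_lit 9, nat_lit 10, nat_lit 7, nat_lit 1, nat_lit 10]), (nat_lit 144, [nat_lit 4, nat_lit 10, nat_lit 8, nat_lit 0, nat_lit 10]), (nat_lit 147, [nat_lit 0, nat_lit 10, nat_lit 7, nat_lit 1, nat_lit 10]), (nat_lit 152, [nat_lit 3, nat_lit 1, nat_lit 10]), (nat_lit 153, [nat_lit 10, nat_lit 7, nat_lit 5, nat_lit 0, nat_lit 10]), (nat_lit 154, [nat_lit 10, nat_lit 7, nat_lit 2, nat_lit 0, nat_lit 10]), (nat_lit 155, [nat_lit 10, nat_lit 9, nat_lit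 0, nat_lit 10]), (nat_lit 156, [nat_lit 10, nat_lit 6, nat_lit 8, nat_lit 10]), (nat_lit 157, [nat_lit 1, nat_lit 9, nat_lit 7, nat_lit 10]), (nat_lit 159, [nat_lit 3, nat_lit 10, nat_lit 8, nat_lit 3, nat_lit 10]), (nat_lit 162, [nat_lit 9, nat_lit 8, nat_lit 10]), (nat_lit 163, [nat_lit 10, nat_lit 6, nat_lit 7, nat_lit 10]), (nat_lit 165, [nat_lit 7, nat_lit 7, nat_lit 10]), (nat_lit 166, [nat_lit 8, nat_lit 10, nat_lit 6, nat_lit 8, nat_lit 10]), (nat_lit 168, [nat_lit 0, nat_lit 10, nat_lit 4, nat_lit 7, nat_lit 10]), (nat_lit 170, [nat_lit 6, nat_lit 10, nat_lit 8, nat_lit 3, nat_lit 10]), (nat_lit 171, [nat_lit 1, nat_lit 9, nat_lit 1, nat_lit 10]), (nat_lit 172, [nat_lit 8, nat_lit 9, nat_lit 8, nat_lit 10]), (nat_lit 174, [nat_lit 10, nat_lit 7, nat_lit 0, nat_lit 10]), (nat_lit 175, [nat_lit 10, nat_lit 0, nat_lit 5, nat_lit 0, nat_lit 10]), (nat_lit 176,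 [nat_lit 1, nat_lit 9, nat_lit 0, nat_lit 10]), (nat_lit 178, [nat_lit 9, nat_lit 1, nat_lit 5, nat_lit 1, nat_lit 10]), (nat_lit 180, [nat_lit 10, nat_lit 4, nat_lit 0, nat_lit 10]), (nat_lit 181, [nat_lit 10, nat_lit 8, nat_lit 3, nat_lit 10]), (nat_lit 182, [nat_lit 5, nat_lit 1, nat_lit 10]), (nat_lit 186, [nat_lit 1, nat_lit 10]), (nat_lit 187, [nat_lit 6, nat_lit 2, nat_lit 0, nat_lit 10]), (nat_lit 198, [nat_lit 1, nat_lit 10, nat_lit 8, nat_lit 3, nat_lit 10]), (nat_lit 199, [nat_lit 7, nat_lit 10, nat_lit 0, nat_lit 5, nat_lit 0, nat_lit 10]), (nat_lit 200, [nat_lit 1, nat_lit 10, nat_lit 6, nat_lit 8, nat_lit 10]), (nat_lit 201, [nat_lit 6, nat_lit 10, nat_lit 4, nat_lit 7, nat_lit 10]), (nat_lit 202, [nat_lit 0, nat_lit 9, nat_lit 3, nat_lit 1, nat_lit 10]), (nat_lit 205, [nat_lit 7, nat_lit 10, nat_lit 7, nat_lit 1, nat_lit 10]), (nat_lit 206, [nat_lit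 10, nat_lit 7, nat_lit 1, nat_lit 10]), (nat_lit 207, [nat_lit 9, nat_lit 7, nat_lit 2, nat_lit 0, nat_lit 10]), (nat_lit 209, [nat_lit 10, nat_lit 8, nat_lit 0, nat_lit 10]), (nat_lit 211, [nat_lit 6, nat_lit 9, nat_lit 7, nat_lit 10]), (nat_lit 212, [nat_lit 7, nat_lit 9, nat_lit 7, nat_lit 10]), (nat_lit 214, [nat_lit 0, nat_lit 10, nat_lit 8, nat_lit 3, nat_lit 10]), (nat_lit 215, [nat_lit 9, nat_lit 7, nat_lit 7, nat_lit 10]), (nat_lit 218, [nat_lit 10, nat_lit 8, nat_lit 5, nat_lit 0, nat_lit 10]), (nat_lit 220, [nat_lit 6, nat_lit 9, nat_lit 0, nat_lit 10]), (nat_lit 221, [nat_lit 0, nat_lit 9, nat_lit 1, nat_lit 10]), (nat_lit 223, [nat_lit 0, nat_lit 10, nat_lit 1, nat_lit 10]), (nat_lit 226, [nat_lit 1, nat_lit 10, nat_lit 7, nat_lit 0, nat_lit 10]), (nat_lit 227, [nat_lit 7, nat_lit 0, nat_lit 10]), (nat_lit 229, [nat_lit 9, nat_lit 8, nat_lit 5, nat_lit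 0, nat_lit 10]), (nat_lit 231, [nat_lit 0, nat_lit 10]), (nat_lit 235, [nat_lit 8, nat_lit 5, nat_lit 0, nat_lit 10]), (nat_lit 239, [nat_lit 6, nat_lit 1, nat_lit 7, nat_lit 10]), (nat_lit 240, [nat_lit 10, nat_lit 4, nat_lit 7, nat_lit 10]), (nat_lit 241, [nat_lit 6, nat_lit 2, nat_lit 10]), (nat_lit 246, [nat_lit 1, nat_lit 9, nat_lit 8, nat_lit 10]), (nat_lit 247, [nat_lit 8, nat_lit 10]), (nat_lit 250, [nat_lit 6, nat_lit 8, nat_lit 10]), (nat_lit 254, [nat_lit 0, nat_lit 5, nat_lit 1, nat_lit 10]), (nat_lit 255, [nat_lit 7, nat_lit 9, nat_lit 10, nat_lit 7, nat_lit 1, nat_lit 10]), (nat_lit 257, [nat_lit 9, nat_lit 7, nat_lit 10]), (nat_lit 259, [nat_lit 8, nat_lit 0, nat_lit 10]), (nat_lit 263, [nat_lit 7, nat_lit 10]), (nat_lit 268, [nat_lit 7, nat_lit 6, nat_lit 2, nat_lit 10]), (nat_lit 270, [nat_lit 9, nat_lit 0, nat_lit 10])]),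
  ([[nat_lit 0], [nat_lit 1], [nat_lit 2], [nat_lit 3], [nat_lit 4], [nat_lit 5], [nat_lit 6], [nat_lit 7], [nat_lit 8], [nat_lit 9]], nat_lit 32, [(nat_lit 32, []), (nat_lit 76, [nat_lit 2, nat_lit 1, nat_lit 9]), (nat_lit 79, [nat_lit 2, nat_lit 8, nat_lit 9]), (nat_lit 106, [nat_lit 9]), (nat_lit 107, [nat_lit 9, nat_lit 0, nat_lit 9]), (nat_lit 111, [nat_lit 3, nat_lit 0, nat_lit 9]), (nat_lit 116, [nat_lit 6, nat_lit 0, nat_lit 9]), (nat_lit 119, [nat_lit 6, nat_lit 9, nat_lit 0, nat_lit 9]), (nat_lit 143, [nat_lit 4, nat_lit 9]), (nat_lit 147, [nat_lit 8, nat_lit 9]), (nat_lit 154, [nat_lit 7, nat_lit 2, nat_lit 9]), (nat_lit 156, [nat_lit 1, nat_lit 9]), (nat_lit 159, [nat_lit 9, nat_lit 2, nat_lit 0, nat_lit 9]), (nat_lit 166, [nat_lit 8, nat_lit 1, nat_lit 9]), (nat_lit 168, [nat_lit 5, nat_lit 2, nat_lit 0, nat_lit 9]), (nat_lit 170, [nat_lit 2, nat_lit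 0, nat_lit 9]), (nat_lit 174, [nat_lit 2, nat_lit 6, nat_lit 9]), (nat_lit 175, [nat_lit 9, nat_lit 7, nat_lit 2, nat_lit 9]), (nat_lit 181, [nat_lit 9, nat_lit 1, nat_lit 9]), (nat_lit 198, [nat_lit 4, nat_lit 5, nat_lit 0, nat_lit 9]), (nat_lit 199, [nat_lit 9, nat_lit 4, nat_lit 5, nat_lit 0, nat_lit 9]), (nat_lit 200, [nat_lit 0, nat_lit 9]), (nat_lit 201, [nat_lit 5, nat_lit 4, nat_lit 9]), (nat_lit 205, [nat_lit 3, nat_lit 9]), (nat_lit 206, [nat_lit 6, nat_lit 9]), (nat_lit 214, [nat_lit 6, nat_lit 2, nat_lit 9]), (nat_lit 218, [nat_lit 2, nat_lit 9]), (nat_lit 226, [nat_lit 5, nat_lit 1, nat_lit 9]), (nat_lit 240, [nat_lit 5, nat_lit 6, nat_lit 9]), (nat_lit 255, [nat_lit 5, nat_lit 0, nat_lit 9])]),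
  ([[nat_lit 0], [nat_lit 1], [nat_lit 2], [nat_lit 3], [nat_lit 4], [nat_lit 5], [nat_lit 6], [nat_lit 7], [nat_lit 8]], nat_lit 175, [(nat_lit 175, []), (nat_lit 199, [nat_lit 7])]),
  ([[nat_lit 0], [nat_lit 1], [nat_lit 2], [nat_lit 3], [nat_lit 4], [nat_lit 5], [nat_lit 6]], nat_lit 1, [(nat_lit 1, []), (nat_lit 3, [nat_lit 6]), (nat_lit 4, [nat_lit 5, nat_lit 2, nat_lit 6]), (nat_lit 7, [nat_lit 4, nat_lit 0, nat_lit 5]), (nat_lit 8, [nat_lit 5, nat_lit 6]), (nat_lit 9, [nat_lit 4, nat_lit 3, nat_lit 6]), (nat_lit 12, [nat_lit 4, nat_lit 2, nat_lit 6]), (nat_lit 14, [nat_lit 5, nat_lit 0, nat_lit 5]), (nat_lit 16, [nat_lit 4, nat_lit 5]), (nat_lit 17, [nat_lit 3, nat_lit 6]), (nat_lit 20, [nat_lit 4, nat_lit 1, nat_lit 5]), (nat_lit 22, [nat_lit 2, nat_lit 6]), (nat_lit 23, [nat_lit 4, nat_lit 6]), (nat_lit 26, [nat_lit 5, nat_lit 1, nat_lit 5]), (nat_lit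 29, [nat_lit 5, nat_lit 3, nat_lit 6]), (nat_lit 35, [nat_lit 6, nat_lit 4, nat_lit 1, nat_lit 5]), (nat_lit 60, [nat_lit 5, nat_lit 6, nat_lit 0, nat_lit 5]), (nat_lit 87, [nat_lit 0, nat_lit 5]), (nat_lit 132, [nat_lit 6, nat_lit 1, nat_lit 5]), (nat_lit 194, [nat_lit 6, nat_lit 4, nat_lit 0, nat_lit 5]), (nat_lit 195, [nat_lit 5, nat_lit 6, nat_lit 1, nat_lit 5]), (nat_lit 196, [nat_lit 1, nat_lit 5]), (nat_lit 197, [nat_lit 6, nat_lit 0, nat_lit 5]), (nat_lit 253, [nat_lit 6, nat_lit 5]), (nat_lit 269, [nat_lit 5]), (nat_lit 273, [nat_lit 5, nat_lit 6, nat_lit 5]), (nat_lit 274, [nat_lit 6, nat_lit 4, nat_lit 5])]),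
  ([[nat_lit 0], [nat_lit 1], [nat_lit 2], [nat_lit 3], [nat_lit 4]], nat_lit 3, [(nat_lit 3, []), (nat_lit 9, [nat_lit 4, nat_lit 3]), (nat_lit 12, [nat_lit 4, nat_lit 2]), (nat_lit 17, [nat_lit 3]), (nat_lit 22, [nat_lit 2]), (nat_lit 23, [nat_lit 4])]),
  ([[nat_lit 0], [nat_lit 1]], nat_lit 2, [(nat_lit 2, []), (nat_lit 55, [nat_lit 1]), (nat_lit 233, [nat_lit 0])])]

theorem card_le : CardLe (PG.gen 12 R) (List.range 12) 898128000 :=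
  McLPc8.bound (rel_sub (R := R) (fun _ => PG.rel) (by decide +kernel))
    (McLPc7.bound (rel_sub (R := R) (fun _ => PG.rel) (by decide +kernel))
    (McLPc6.bound (rel_sub (R := R) (fun _ => PG.rel) (by decide +kernel))
    (McLPc5.bound (rel_sub (R := R) (fun _ => PG.rel) (by decide +kernel))
    (McLPc4.bound (rel_sub (R := R) (fun _ => PG.rel) (by decide +kernel))
    (McLPc3.bound (rel_sub (R := R) (fun _ => PG.rel) (by decide +kernel))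
    (McLPc2.bound (rel_sub (R := R) (fun _ => PG.rel) (by decide +kernel))
    (McLPc1.bound (rel_sub (R := R) (fun _ => PG.rel) (by decide +kernel))
    (McLPc0.bound (rel_sub (R := R) (fun _ => PG.rel) (by decide +kernel))
    (cardLe_nil _)))))))))

theorem isPres {G : Type*} [Group G] [Finite G] {A : RAct G 275} {g : ℕ → G} (hb : A.IsBase H9.OutMcL.B)
    (h : A.Tab g 32 H9.OutMcL.T) (ho : Nat.card G = 898128000) : IsPres (dG g W) 12 R :=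
  isPres_of_tab hb h ho (by decide +kernel) (by decide +kernel) (by decide +kernel) (lv := lv)
    (by decide +kernel) (by decide +kernel) card_le

end Cfsg.Agent.L0.McLPres
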